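import Groth.Agent.Et18.PicCurveLift.Topology
import Groth.Agent.PicLib.CocycleGlue
import Groth.Agent.PicLib.PullbackGen
import Groth.Agent.AmpleLib.Power
import Groth.Agent.FlatMorPush.FiniteSet

/-!
# Lifting invertible modules from a closed subscheme of dimension at most one
-/

set_option autoImplicit false
set_option linter.all false
set_option backward.isDefEq.respectTransparency.types false
set_option maxHeartbeats 1000000

universe u

open CategoryTheory CategoryTheory.Limits AlgebraicGeometry Opposite TopologicalSpace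
open Groth.Agent.Coherent Groth.Agent.PicLib Groth.Agent.AmpleLib

namespace Groth.Agent.Et18.PicCurveLift

variable {X Z : Scheme.{u}}

theorem app_res (i : Z ⟶ X) {U V : X.Opens} (h : V ≤ U) (r : Γ(X, U)) :
    i.app V (res h r) = res ((Opens.map i.base).map (homOfLE h)).le (i.app U r) :=
  ConcreteCategory.congr_hom (i.naturality (homOfLE h).op) r

theorem isUnit_res_of_le {U V : X.Opens} (h : V ≤ U) (a : Γ(X, U)) (ha : V ≤ X.basicOpen a) :
    IsUnit (res h a) := by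
  have h2 : V ≤ X.basicOpen a := ha
  have := (RingedSpace.isUnit_res_basicOpen X.toRingedSpace a).map (res h2)
  exact (congrArg IsUnit (res_res (X.basicOpen_le a) h2 a)).mp this

theorem le_basicOpen_of_isUnit_res {U V : X.Opens} (h : V ≤ U) (a : Γ(X, U)) (ha : IsUnit (res h a)) :
    V ≤ X.basicOpen a := by
  intro z hz
  have h1 := X.basicOpen_of_isUnit ha
  have h2 : X.basicOpen (res h a) = V ⊓ X.basicOpen a := X.basicOpen_res a (homOfLE h).op
  have : z ∈ V ⊓ X.basicOpen a := by rw [← h2, h1]; exact hz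
  exact this.2

/-- An invertible module on a curve has a generator on an open containing all generic points. -/
theorem exists_gen_dense [NoetherianSpace Z] {L : Z.Modules} (hL : PicF.IsInvertible L) :
    ∃ (T₀ : Z.Opens) (e : Γ(L, T₀)), IsGen L T₀ e ∧
      ∀ C (hC : C ∈ irreducibleComponents Z), hC.1.genericPoint ∈ T₀ := by
  classical
  let K := irreducibleComponents Z
  have hKfin : K.Finite := NoetherianSpace.finite_irreducibleComponents
  let η : K → Z := fun C => C.2.1.genericPoint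
  have hη : ∀ C : K, closure {η C} = C.1 := fun C =>
    C.2.1.isGenericPoint_genericPoint (isClosed_of_mem_irreducibleComponents _ C.2)
  choose W hW s hs using fun C : K => exists_isGen hL (η C)
  let others : K → Set Z := fun C => ⋃ D ∈ {D ∈ K | D ≠ C.1}, D
  have hcl : ∀ C, IsClosed (others C) := fun C =>
    (hKfin.subset fun D hD => hD.1).isClosed_biUnion fun D hD => isClosed_of_mem_irreducibleComponents D hD.1
  let U : K → Z.Opens := fun C => W C ⊓ ⟨(others C)ᶜ, (hcl C).isOpen_compl⟩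
  have hηU : ∀ C, η C ∈ U C := fun C => ⟨hW C, by
    show η C ∈ (others C)ᶜ
    intro h
    obtain ⟨D, hD, hmem⟩ := Set.mem_iUnion₂.mp h
    obtain ⟨hD, hne⟩ := hD
    refine hne (Set.Subset.antisymm (C.2.2 hD.1 ?_) ?_)
    · rw [← hη C]; exact closure_minimal (Set.singleton_subset_iff.mpr hmem) (isClosed_of_mem_irreducibleComponents D hD)
    · rw [← hη C]; exact closure_minimal (Set.singleton_subset_iff.mpr hmem) (isClosed_of_mem_irreducibleComponents D hD)⟩
  have hdisj : ∀ C D, C ≠ D → U C ⊓ U D = ⊥ := by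
    intro C D hne
    refine eq_bot_iff.mpr fun z hz => False.elim ?_
    obtain ⟨E, hE, hzE⟩ : ∃ E ∈ K, z ∈ E :=
      ⟨_, irreducibleComponent_mem_irreducibleComponents z, mem_irreducibleComponent⟩
    have h1 : E = C.1 := by
      by_contra h; exact hz.1.2 (Set.mem_biUnion (show E ∈ {D ∈ K | D ≠ C.1} from ⟨hE, h⟩) hzE)
    have h2 : E = D.1 := by
      by_contra h; exact hz.2.2 (Set.mem_biUnion (show E ∈ {D' ∈ K | D' ≠ D.1} from ⟨hE, h⟩) hzE)
    exact hne (Subtype.ext (h1.symm.trans h2))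
  let T₀ : Z.Opens := iSup U
  let sU : ∀ C, Γ(L, U C) := fun C => resM L inf_le_left (s C)
  have hsub : ∀ (V : Z.Opens), V ≤ ⊥ → ∀ a b : Γ(L, V), a = b := fun V hV a b =>
    TopCat.Sheaf.eq_of_locally_eq' (⟨L.presheaf, L.isSheaf⟩ : TopCat.Sheaf Ab Z)
      (fun j : PEmpty.{u + 1} => j.elim) V (fun j => j.elim) (hV.trans bot_le) _ _ fun j => j.elim
  obtain ⟨e, he, -⟩ := TopCat.Sheaf.existsUnique_gluing' (⟨L.presheaf, L.isSheaf⟩ : TopCat.Sheaf Ab Z)
    U T₀ (fun C => homOfLE (le_iSup U C)) le_rfl sU (fun C D => by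
      by_cases h : C = D
      · subst h; rfl
      · exact hsub _ (hdisj C D h).le _ _)
  refine ⟨T₀, e, isGen_of_cover U (fun C => le_iSup U C) le_rfl fun C => ?_, fun C hC => ?_⟩
  · rw [show resM L (le_iSup U C) e = sU C from he C]
    exact (hs C).restrict _
  · exact Opens.mem_iSup.2 ⟨⟨C, hC⟩, hηU ⟨C, hC⟩⟩

variable (i : Z ⟶ X) [IsClosedImmersion i]

/-- The local data at a point of the exceptional set. -/
theorem exists_local_data [NoetherianSpace X] [NoetherianSpace Z] (hdim : topologicalKrullDim Z ≤ 1)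
    (hb : ∀ Y : Set X, IsClosed Y → Y.Nonempty → _root_.IsConnected Y →
      (Y ∩ Set.range i).Nonempty ∧ _root_.IsConnected (Y ∩ Set.range i))
    {L : Z.Modules} (hL : PicF.IsInvertible L) (T₀ : Z.Opens) (e : Γ(L, T₀)) (he : IsGen L T₀ e)
    (hT₀ : ∀ C (hC : C ∈ irreducibleComponents Z), hC.1.genericPoint ∈ T₀) (x : Z) (hx : x ∉ T₀) :
    ∃ (U : X.Opens) (C : Set X) (a b : Γ(X, U)) (s : Γ(L, i ⁻¹ᵁ U)),
      IsClosed C ∧ i x ∈ C ∧ C ⊆ U ∧ C ∩ Set.range i ⊆ {i x} ∧ (U : Set X) \ C ⊆ X.basicOpen a ∧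
      (U : Set X) \ C ⊆ X.basicOpen b ∧ IsGen L (i ⁻¹ᵁ U) s ∧
      ∀ (W : Z.Opens) (h1 : W ≤ i ⁻¹ᵁ U) (h2 : W ≤ T₀),
        res h1 (i.app U b) • resM L h1 s = res h1 (i.app U a) • resM L h2 e := by
  classical
  obtain ⟨hFfin, hFcl⟩ := finite_of_avoid hdim (T₀ : Set Z)ᶜ T₀.isOpen.isClosed_compl
    fun C hC h => h (hT₀ C hC)
  have hxcl : IsClosed ({x} : Set Z) := hFcl x hx
  obtain ⟨V, hxV, s₁, hs₁⟩ := exists_isGen hL x
  have hF' : IsClosed ((T₀ : Set Z)ᶜ \ {x}) := by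
    rw [← Set.biUnion_of_singleton ((T₀ : Set Z)ᶜ \ {x})]
    exact (hFfin.subset Set.sdiff_subset).isClosed_biUnion fun z hz => hFcl z hz.1
  obtain ⟨_, ⟨N, hN, rfl⟩, hxN, hNle⟩ := Z.isBasis_affineOpens.exists_subset_of_mem_open
    (show x ∈ (V : Set Z) ∩ ((T₀ : Set Z)ᶜ \ {x})ᶜ from ⟨hxV, fun h => h.2 rfl⟩)
    (V.isOpen.inter hF'.isOpen_compl)
  have hNV : N ≤ V := fun z hz => (hNle hz).1
  have hNT : ∀ z ∈ N, z ≠ x → z ∈ T₀ := fun z hz hne => by
    by_contra h; exact (hNle hz).2 ⟨h, hne⟩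
  let O₂ : Z.Opens := N ⊓ ⟨{x}ᶜ, hxcl.isOpen_compl⟩
  let G : Set Z := {η | ∃ C, ∃ hC : C ∈ irreducibleComponents Z, hC.1.genericPoint = η ∧ η ∈ N}
  have hG : G.Finite := by
    refine ((NoetherianSpace.finite_irreducibleComponents (α := Z)).dependent_image
      (fun C hC => hC.1.genericPoint)).subset ?_
    rintro η ⟨C, hC, rfl, -⟩
    exact ⟨C, hC, rfl⟩
  have hGO : G ⊆ (O₂ : Set Z) := by
    rintro η ⟨C, hC, rfl, hηN⟩
    exact ⟨hηN, fun h => hx (Set.mem_singleton_iff.mp h ▸ hT₀ C hC)⟩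
  obtain ⟨b, hbO, hbG⟩ := FlatMorPush.exists_basicOpen_finite hN O₂ hG hGO
    (by rintro η ⟨C, hC, rfl, hηN⟩; exact hηN)
  have hxb : x ∉ Z.basicOpen b := fun h => (hbO h).2 rfl
  have hDT : Z.basicOpen b ≤ T₀ := fun z hz => hNT z (hbO hz).1 (fun h => (hbO hz).2 h)
  let E := closure ((N : Set Z) \ Z.basicOpen b)
  obtain ⟨hEfin, hEcl⟩ := finite_of_avoid hdim E isClosed_closure fun C hC hmem => by
    by_cases hηN : hC.1.genericPoint ∈ N
    · obtain ⟨w, hw, hw'⟩ := mem_closure_iff.mp hmem (Z.basicOpen b : Set Z) (Z.basicOpen b).isOpen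
        (hbG ⟨C, hC, rfl, hηN⟩)
      exact hw'.2 hw
    · obtain ⟨w, hwN, hwC⟩ : ((N : Set Z) ∩ closure {hC.1.genericPoint}).Nonempty := by
        let others : Set Z := ⋃ D ∈ {D ∈ irreducibleComponents Z | D ≠ C}, D
        have hoc : IsClosed others := ((NoetherianSpace.finite_irreducibleComponents (α := Z)).subset
          fun D hD => hD.1).isClosed_biUnion fun D hD => isClosed_of_mem_irreducibleComponents D hD.1
        have hη : closure {hC.1.genericPoint} = C :=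
          hC.1.isGenericPoint_genericPoint (isClosed_of_mem_irreducibleComponents _ hC)
        have hno : hC.1.genericPoint ∈ othersᶜ := by
          intro h
          obtain ⟨D, ⟨hD, hne⟩, hm⟩ := Set.mem_iUnion₂.mp h
          have hsub : C ⊆ D := hη ▸ closure_minimal (Set.singleton_subset_iff.mpr hm) (isClosed_of_mem_irreducibleComponents D hD)
          exact hne (Set.Subset.antisymm (hC.2 hD.1 hsub) hsub)
        obtain ⟨w, hw, hw'⟩ := mem_closure_iff.mp hmem othersᶜ hoc.isOpen_compl hno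
        refine ⟨w, hw'.1, ?_⟩
        rw [hη]
        have hwc : irreducibleComponent w = C := by
          by_contra h
          exact hw (Set.mem_biUnion (show irreducibleComponent w ∈ {D ∈ irreducibleComponents Z | D ≠ C} from
            ⟨irreducibleComponent_mem_irreducibleComponents w, h⟩) mem_irreducibleComponent)
        exact hwc ▸ mem_irreducibleComponent
      exact hηN ((specializes_iff_mem_closure.mpr hwC).mem_open N.isOpen hwN)
  have hE' : IsClosed (E \ {x}) := by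
    rw [← Set.biUnion_of_singleton (E \ {x})]
    exact (hEfin.subset Set.sdiff_subset).isClosed_biUnion fun z hz => hEcl z hz.1
  let N₂ : Z.Opens := N ⊓ ⟨(E \ {x})ᶜ, hE'.isOpen_compl⟩
  have hN₂ : ∀ z ∈ N₂, z ≠ x → z ∈ Z.basicOpen b := fun z hz hne => by
    by_contra h; exact hz.2 ⟨subset_closure ⟨hz.1, h⟩, hne⟩
  -- the fraction
  let sN : Γ(L, N) := resM L hNV s₁
  have hsN : IsGen L N sN := hs₁.restrict hNV
  let g : Γ(Z, Z.basicOpen b) := he.coef hDT (resM L (Z.basicOpen_le b) sN)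
  have hg : g • resM L hDT e = resM L (Z.basicOpen_le b) sN := he.coef_spec hDT _
  have hgu : IsUnit g := by
    have h1 := (he.restrict hDT).isUnit_coef (hsN.restrict (Z.basicOpen_le b))
    rwa [show (he.restrict hDT).coef le_rfl (resM L (Z.basicOpen_le b) sN) = g from
      (he.restrict hDT).coef_eq le_rfl (by rw [resM_resM]; exact hg)] at h1
  haveI := hN.isLocalization_basicOpen b
  obtain ⟨k, a, hka⟩ := IsLocalization.Away.surj (S := Γ(Z, Z.basicOpen b)) b g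
  replace hka : g * (res (Z.basicOpen_le b) b) ^ k = res (Z.basicOpen_le b) a := hka
  have hbu : IsUnit (res (Z.basicOpen_le b) b) := isUnit_res_of_le _ b le_rfl
  have hDa : Z.basicOpen b ≤ Z.basicOpen a :=
    le_basicOpen_of_isUnit_res (Z.basicOpen_le b) a (hka ▸ hgu.mul (hbu.pow k))
  -- lift to `X`
  obtain ⟨O, hO, hON⟩ := i.isClosedEmbedding.isInducing.isOpen_iff.mp N₂.isOpen
  have hxN₂ : x ∈ N₂ := ⟨hxN, fun h => h.2 rfl⟩
  obtain ⟨_, ⟨U₁, hU₁, rfl⟩, hxU₁, hU₁O⟩ := X.isBasis_affineOpens.exists_subset_of_mem_open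
    (show i x ∈ O from hON.ge hxN₂) hO
  have hle₂ : i ⁻¹ᵁ U₁ ≤ N₂ := fun z hz => hON.le (show z ∈ i ⁻¹' O from hU₁O hz)
  have hle : i ⁻¹ᵁ U₁ ≤ N := hle₂.trans inf_le_left
  obtain ⟨A, hA⟩ := i.app_surjective U₁ hU₁ (res hle a)
  obtain ⟨B, hB⟩ := i.app_surjective U₁ hU₁ (res hle b)
  let w := A * B
  let Vw : Set X := (U₁ : Set X) \ X.basicOpen w
  have hpre : ∀ z : Z, i z ∈ X.basicOpen w ↔ z ∈ i ⁻¹ᵁ U₁ ∧ z ∈ Z.basicOpen a ∧ z ∈ Z.basicOpen b := fun z => by
    have h1 : i ⁻¹ᵁ X.basicOpen w = Z.basicOpen (i.app U₁ w) := Scheme.preimage_basicOpen i w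
    show z ∈ i ⁻¹ᵁ X.basicOpen w ↔ _
    rw [h1, map_mul, hA, hB, Scheme.basicOpen_mul, show Z.basicOpen (res hle a) = (i ⁻¹ᵁ U₁) ⊓ Z.basicOpen a from
      Z.basicOpen_res a (homOfLE hle).op, show Z.basicOpen (res hle b) = (i ⁻¹ᵁ U₁) ⊓ Z.basicOpen b from
      Z.basicOpen_res b (homOfLE hle).op]
    exact ⟨fun h => ⟨h.1.1, h.1.2, h.2.2⟩, fun h => ⟨⟨h.1, h.2.1⟩, h.1, h.2.2⟩⟩
  have hxVw : i x ∈ Vw := ⟨hxU₁, fun h => hxb ((hpre x).mp h).2.2⟩
  have hVwZ : Vw ∩ Set.range i ⊆ {i x} := by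
    rintro _ ⟨⟨hzU, hzw⟩, z, rfl⟩
    by_cases h : z = x
    · rw [h]; rfl
    · have hzb := hN₂ z (hle₂ hzU) h
      exact absurd ((hpre z).mpr ⟨hzU, hDa hzb, hzb⟩) hzw
  have hVcl : closure Vw ∩ (U₁ : Set X) ⊆ Vw := fun z hz =>
    ⟨hz.2, fun h => by
      obtain ⟨y, hy, hy'⟩ := mem_closure_iff.mp hz.1 (X.basicOpen w : Set X) (X.basicOpen w).isOpen h
      exact hy'.2 hy⟩
  have hixcl : IsClosed ({i x} : Set X) := by
    rw [← Set.image_singleton]; exact i.isClosedEmbedding.isClosedMap _ hxcl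
  obtain ⟨U', C, hU', hC, hxC, hCU', hU'U, hCZ, hVC⟩ := exists_isolating (Set.range i)
    i.isClosedEmbedding.isClosed_range hb (i x) U₁ U₁.isOpen hxU₁ Vw Set.sdiff_subset hVcl hxVw ⟨x, rfl⟩ hVwZ hixcl
  let U : X.Opens := ⟨U', hU'⟩
  have hUU : U ≤ U₁ := hU'U
  have hbas : (U : Set X) \ C ⊆ (X.basicOpen w : Set X) := fun z hz => by
    by_contra h
    exact hz.2 (hVC.le ⟨⟨hU'U hz.1, h⟩, hz.1⟩)
  have hpU : i ⁻¹ᵁ U ≤ i ⁻¹ᵁ U₁ := fun z hz => hU'U hz
  refine ⟨U, C, res hUU A, res hUU (B ^ k), resM L (hpU.trans hle) sN, hC, hxC, hCU', hCZ,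
    fun z hz => ?_, fun z hz => ?_, hsN.restrict _, fun W h1 h2 => ?_⟩
  · rw [SetLike.mem_coe, show X.basicOpen (res hUU A) = U ⊓ X.basicOpen A from X.basicOpen_res A (homOfLE hUU).op]
    exact ⟨hz.1, ((X.basicOpen_mul A B).le (hbas hz)).1⟩
  · rw [SetLike.mem_coe, show X.basicOpen (res hUU (B ^ k)) = U ⊓ X.basicOpen (B ^ k) from
      X.basicOpen_res (B ^ k) (homOfLE hUU).op]
    refine ⟨hz.1, ?_⟩
    have hB1 : (z : X) ∈ X.basicOpen B := ((X.basicOpen_mul A B).le (hbas hz)).2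
    have hzU₁ : z ∈ U₁ := hU'U hz.1
    show (z : X) ∈ X.basicOpen (B ^ k)
    rw [X.mem_basicOpen _ _ hzU₁] at hB1 ⊢
    rw [map_pow]
    exact hB1.pow k
  · have hWN : W ≤ N := h1.trans (hpU.trans hle)
    have hWb : W ≤ Z.basicOpen b := fun z hz => by
      refine hN₂ z (hle₂ (hpU (h1 hz))) fun h => hx (h ▸ h2 hz)
    have eA : res h1 (i.app U (res hUU A)) = res hWN a := by
      rw [app_res, hA, res_res, res_res]
    have eB : res h1 (i.app U (res hUU (B ^ k))) = res hWN (b ^ k) := by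
      rw [app_res, map_pow, hB, ← map_pow, res_res, res_res]
    rw [eA, eB, resM_resM]
    have h := congrArg (resM L hWb) hg
    rw [resM_smul, resM_resM, resM_resM] at h
    rw [← h, smul_smul, ← res_res (Z.basicOpen_le b) hWb, ← map_mul, map_pow, mul_comm, hka, res_res]

/-- **Lifting**: every invertible module on `Z` extends to `X`. -/
theorem exists_lift [NoetherianSpace X] [NoetherianSpace Z] (hdim : topologicalKrullDim Z ≤ 1)
    (hb : ∀ Y : Set X, IsClosed Y → Y.Nonempty → _root_.IsConnected Y →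
      (Y ∩ Set.range i).Nonempty ∧ _root_.IsConnected (Y ∩ Set.range i))
    (c : PicF.Cl Z) (hc : PicF.IsInvertibleCl c) :
    ∃ d : PicF.Cl X, PicF.IsInvertibleCl d ∧ PicF.pullCl i d = c := by
  classical
  obtain ⟨L, rfl, hL⟩ := hc
  obtain ⟨T₀, e, he, hT₀⟩ := exists_gen_dense hL
  obtain ⟨hFfin, hFcl⟩ := finite_of_avoid hdim (T₀ : Set Z)ᶜ T₀.isOpen.isClosed_compl
    fun C hC h => h (hT₀ C hC)
  let F : Type u := ((T₀ : Set Z)ᶜ : Set Z)
  haveI : Finite F := hFfin.to_subtype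
  choose U C a b s hC hxC hCU hCZ hUa hUb hs hrel using fun x : F => exists_local_data i hdim hb hL T₀ e he hT₀ x.1 x.2
  have hdisj : ∀ x y : F, x ≠ y → Disjoint (C x) (C y) := fun x y h =>
    disjoint_of_inter (fun he' => h (Subtype.ext (i.isClosedEmbedding.injective he'))) (hC x) (hC y) hb (hCZ x) (hCZ y)
  let O : Option F → X.Opens := fun o => o.elim ⟨(⋃ x, C x)ᶜ, (isClosed_iUnion_of_finite hC).isOpen_compl⟩
    fun x => U x ⊓ ⟨(⋃ y : {y : F // y ≠ x}, C y.1)ᶜ, (isClosed_iUnion_of_finite fun y => hC _).isOpen_compl⟩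
  have hnone : ∀ p, p ∈ O none ↔ ∀ x, p ∉ C x := fun p => by
    show p ∈ (⋃ x, C x)ᶜ ↔ _
    simp
  have hsome : ∀ x p, p ∈ O (some x) ↔ p ∈ U x ∧ ∀ y, y ≠ x → p ∉ C y := fun x p => by
    show (p ∈ U x ∧ p ∈ (⋃ y : {y : F // y ≠ x}, C y.1)ᶜ) ↔ _
    simp
  have hcov : iSup O = ⊤ := top_le_iff.mp fun p _ => by
    by_cases h : ∃ x, p ∈ C x
    · obtain ⟨x, hx⟩ := h
      exact Opens.mem_iSup.2 ⟨some x, (hsome x p).2 ⟨hCU x hx, fun y hy hy' =>
        Set.disjoint_left.mp (hdisj y x hy) hy' hx⟩⟩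
    · exact Opens.mem_iSup.2 ⟨none, (hnone p).2 fun x hx => h ⟨x, hx⟩⟩
  have hover : ∀ j l : Option F, j ≠ l → O j ⊓ O l ≤ O none := by
    intro j l hjl p hp
    rcases j with _ | x
    · exact hp.1
    rcases l with _ | y
    · exact hp.2
    refine (hnone p).2 fun z hz => ?_
    by_cases hzx : z = x
    · subst hzx
      exact ((hsome y p).1 hp.2).2 z (fun h => hjl (by rw [h])) hz
    · exact ((hsome x p).1 hp.1).2 z hzx hz
  have hOU : ∀ x, O (some x) ⊓ O none ≤ U x := fun x p hp => ((hsome x p).1 hp.1).1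
  have hau : ∀ x, IsUnit (res (hOU x) (a x)) := fun x => isUnit_res_of_le _ _ fun p hp =>
    hUa x ⟨hOU x hp, (hnone p).1 hp.2 x⟩
  have hbu : ∀ x, IsUnit (res (hOU x) (b x)) := fun x => isUnit_res_of_le _ _ fun p hp =>
    hUb x ⟨hOU x hp, (hnone p).1 hp.2 x⟩
  let q : ∀ j : Option F, (Γ(X, O j ⊓ O none))ˣ := fun j =>
    match j with
    | none => 1
    | some x => (hau x).unit * (hbu x).unit⁻¹
  let η : ∀ j l : Option F, (Γ(X, O j ⊓ O l))ˣ := fun j l =>
    if h : j = l then 1 else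
      Units.map (res (le_inf inf_le_left (hover j l h))).toMonoidHom (q j) *
        (Units.map (res (le_inf inf_le_right (hover j l h))).toMonoidHom (q l))⁻¹
  let Q : ∀ (j : Option F) (p : X), p ∈ O j ⊓ O none → (X.presheaf.stalk p)ˣ := fun j p hp =>
    Units.map (X.presheaf.germ (O j ⊓ O none) p hp).hom.toMonoidHom (q j)
  have heta : ∀ (p : X) (j l : {j : Option F // p ∈ O j}) (h : j.1 ≠ l.1),
      CocycleGlue.eta O η j l = ((Q j.1 p ⟨j.2, hover _ _ h ⟨j.2, l.2⟩⟩ *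
        (Q l.1 p ⟨l.2, hover _ _ h ⟨j.2, l.2⟩⟩)⁻¹ : (X.presheaf.stalk p)ˣ) : X.presheaf.stalk p) := by
    intro p j l h
    show X.presheaf.germ _ p _ ((η j.1 l.1 : (Γ(X, O j.1 ⊓ O l.1))ˣ) : Γ(X, O j.1 ⊓ O l.1)) = _
    simp only [η, dif_neg h, Units.val_mul, map_mul, Q]
    congr 1
    · exact X.presheaf.germ_res_apply _ p _ _
    · rw [← map_inv, ← map_inv]
      exact X.presheaf.germ_res_apply _ p _ _
  have hcoc : ∀ (p : X) (j l m : {j : Option F // p ∈ O j}),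
      CocycleGlue.eta O η j m = CocycleGlue.eta O η j l * CocycleGlue.eta O η l m := by
    intro p j l m
    have hone : ∀ j' : {j : Option F // p ∈ O j}, CocycleGlue.eta O η j' j' = 1 := fun j' => by
      show X.presheaf.germ _ p _ ((η j'.1 j'.1 : (Γ(X, O j'.1 ⊓ O j'.1))ˣ) : Γ(X, O j'.1 ⊓ O j'.1)) = 1
      simp only [η, dif_pos, Units.val_one, map_one]
    by_cases hjl : j.1 = l.1
    · obtain rfl : j = l := Subtype.ext hjl
      rw [hone, one_mul]
    by_cases hlm : l.1 = m.1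
    · obtain rfl : l = m := Subtype.ext hlm
      rw [hone, mul_one]
    by_cases hjm : j.1 = m.1
    · obtain rfl : j = m := Subtype.ext hjm
      rw [hone, heta p j l hjl, heta p l j hlm, ← Units.val_mul, mul_assoc, inv_mul_cancel_left, mul_inv_cancel,
        Units.val_one]
    rw [heta p j m hjm, heta p j l hjl, heta p l m hlm, ← Units.val_mul, mul_assoc, inv_mul_cancel_left]
  obtain ⟨M, σ, hM, hσ, hσrel⟩ := CocycleGlue.exists_invertible O η hcoc hcov
  refine ⟨PicF.cl M, ⟨M, rfl, hM⟩, Quot.sound ?_⟩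
  -- generators on `Z`
  have hnT : i ⁻¹ᵁ O none ≤ T₀ := fun z hz => by
    by_contra h
    exact (hnone (i z)).1 hz ⟨z, h⟩ (hxC ⟨z, h⟩)
  have hpU : ∀ x, i ⁻¹ᵁ O (some x) ≤ i ⁻¹ᵁ U x := fun x z hz => ((hsome x (i z)).1 hz).1
  let t : ∀ j, Γ(L, i ⁻¹ᵁ O j) := fun j =>
    match j with
    | none => resM L hnT e
    | some x => resM L (hpU x) (s x)
  have ht : ∀ j, IsGen L (i ⁻¹ᵁ O j) (t j) := by
    rintro (_ | x)
    · exact he.restrict hnT
    · exact (hs x).restrict (hpU x)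
  have htrel : ∀ (j : Option F) (W : Z.Opens) (h1 : W ≤ i ⁻¹ᵁ O j) (h2 : W ≤ i ⁻¹ᵁ O none),
      resM L h1 (t j) = res (show W ≤ i ⁻¹ᵁ (O j ⊓ O none) from fun z hz => ⟨h1 hz, h2 hz⟩)
        (i.app _ ((q j : (Γ(X, O j ⊓ O none))ˣ) : Γ(X, O j ⊓ O none))) • resM L h2 (t none) := by
    rintro (_ | x) W h1 h2
    · show _ = res _ (i.app _ ((1 : (Γ(X, O none ⊓ O none))ˣ) : Γ(X, O none ⊓ O none))) • _
      rw [Units.val_one, map_one, map_one, one_smul]
    · let hW : W ≤ i ⁻¹ᵁ (O (some x) ⊓ O none) := fun z hz => ⟨h1 hz, h2 hz⟩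
      let φ : Γ(X, O (some x) ⊓ O none) →+* Γ(Z, W) := (res hW).comp (i.app _).hom
      show resM L h1 (resM L (hpU x) (s x)) =
        φ (((hau x).unit * (hbu x).unit⁻¹ : (Γ(X, O (some x) ⊓ O none))ˣ) : Γ(X, O (some x) ⊓ O none)) •
          resM L h2 (resM L hnT e)
      have hr := hrel x W (h1.trans (hpU x)) (h2.trans hnT)
      have ea : res (h1.trans (hpU x)) (i.app (U x) (a x)) = φ ((hau x).unit : Γ(X, O (some x) ⊓ O none)) := by
        show _ = res hW (i.app _ ((hau x).unit : Γ(X, O (some x) ⊓ O none)))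
        rw [IsUnit.unit_spec, app_res, res_res]
      have eb : res (h1.trans (hpU x)) (i.app (U x) (b x)) = φ ((hbu x).unit : Γ(X, O (some x) ⊓ O none)) := by
        show _ = res hW (i.app _ ((hbu x).unit : Γ(X, O (some x) ⊓ O none)))
        rw [IsUnit.unit_spec, app_res, res_res]
      rw [ea, eb] at hr
      rw [resM_resM, resM_resM, Units.val_mul, map_mul, mul_comm, mul_smul, ← hr, smul_smul, ← map_mul,
        ← Units.val_mul, inv_mul_cancel, Units.val_one, map_one, one_smul]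
  have htη : ∀ j l : Option F, resM L (show i ⁻¹ᵁ (O j ⊓ O l) ≤ i ⁻¹ᵁ O j from fun z hz => hz.1) (t j) =
      i.app _ ((η j l : (Γ(X, O j ⊓ O l))ˣ) : Γ(X, O j ⊓ O l)) •
        resM L (show i ⁻¹ᵁ (O j ⊓ O l) ≤ i ⁻¹ᵁ O l from fun z hz => hz.2) (t l) := by
    intro j l
    by_cases h : j = l
    · subst h
      simp only [η, dif_pos, Units.val_one, map_one, one_smul]
    have hl := htrel l (i ⁻¹ᵁ (O j ⊓ O l)) (fun z hz => hz.2) (fun z hz => hover j l h hz)
    have hj := htrel j (i ⁻¹ᵁ (O j ⊓ O l)) (fun z hz => hz.1) (fun z hz => hover j l h hz)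
    rw [hj, hl, smul_smul]
    congr 1
    simp only [η, dif_neg h, Units.val_mul, map_mul]
    rw [← map_inv]
    simp only [Units.coe_map, RingHom.toMonoidHom_eq_coe, MonoidHom.coe_coe, app_res]
    rw [mul_assoc, ← map_mul, ← map_mul, ← Units.val_mul, inv_mul_cancel, Units.val_one, map_one, map_one, mul_one]
  have hrelM : ∀ j l : Option F,
      resM _ (show i ⁻¹ᵁ (O j ⊓ O l) ≤ i ⁻¹ᵁ O j from fun z hz => hz.1) (pullSec i (σ j)) =
        i.app _ ((η j l : (Γ(X, O j ⊓ O l))ˣ) : Γ(X, O j ⊓ O l)) •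
          resM _ (show i ⁻¹ᵁ (O j ⊓ O l) ≤ i ⁻¹ᵁ O l from fun z hz => hz.2) (pullSec i (σ l)) := by
    intro j l
    rw [resM_pullSec i (inf_le_left : O j ⊓ O l ≤ O j) (σ j), resM_pullSec i (inf_le_right : O j ⊓ O l ≤ O l) (σ l),
      hσrel j l, pullSec_smul]
  have hcov' : iSup (fun j => i ⁻¹ᵁ O j) = ⊤ := top_le_iff.mp fun z _ => by
    obtain ⟨j, hj⟩ := Opens.mem_iSup.1 (hcov.ge (trivial : i z ∈ (⊤ : X.Opens)))
    exact Opens.mem_iSup.2 ⟨j, hj⟩
  obtain ⟨E, -⟩ := exists_iso_of_gens (fun j => i ⁻¹ᵁ O j) hcov' (fun j => pullSec i (σ j))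
    (fun j => isGen_pullSec i (hσ j) hM) t ht (fun j l W hj hl r hr => by
      have hW : W ≤ i ⁻¹ᵁ (O j ⊓ O l) := fun z hz => ⟨hj hz, hl hz⟩
      have h1 := congrArg (resM _ hW) (hrelM j l)
      rw [resM_smul, resM_resM, resM_resM] at h1
      have h2 := congrArg (resM L hW) (htη j l)
      rw [resM_smul, resM_resM, resM_resM] at h2
      rw [h2]
      congr 1
      exact ((isGen_pullSec i (hσ l) hM) W hl).1 (h1.symm.trans hr))
  exact ⟨E⟩

end Groth.Agent.Et18.PicCurveLift
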