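import Mathlib.Topology.NoetherianSpace
import Mathlib.Topology.Sober
import Mathlib.Topology.KrullDimension
import Mathlib.Topology.Connected.TotallyDisconnected

/-!
# Topology for lifting divisors from a curve
-/

set_option autoImplicit false
set_option linter.all false

open Set TopologicalSpace

namespace Groth.Agent.Et18.PicCurveLift

variable {α : Type*} [TopologicalSpace α]

theorem isClosed_connectedComponentIn {F : Set α} (hF : IsClosed F) (x : α) :
    IsClosed (connectedComponentIn F x) := by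
  by_cases hx : x ∈ F
  · rw [← closure_subset_iff_isClosed]
    exact isPreconnected_connectedComponentIn.closure.subset_connectedComponentIn
      (subset_closure (mem_connectedComponentIn hx))
      (closure_minimal (connectedComponentIn_subset F x) hF)
  · rw [connectedComponentIn_eq_empty hx]
    exact isClosed_empty

theorem isClosed_compl_connectedComponent [NoetherianSpace α] (y : α) :
    IsClosed (connectedComponent y)ᶜ := by
  have h : (connectedComponent y)ᶜ =
      ⋃ s ∈ {s ∈ irreducibleComponents α | ¬ s ⊆ connectedComponent y}, s := by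
    ext z
    simp only [mem_compl_iff, mem_iUnion, mem_setOf_eq]
    constructor
    · exact fun hz => ⟨irreducibleComponent z, ⟨irreducibleComponent_mem_irreducibleComponents z,
        fun h => hz (h mem_irreducibleComponent)⟩, mem_irreducibleComponent⟩
    · rintro ⟨s, ⟨hs, hns⟩, hzs⟩ hz
      refine hns ?_
      rw [connectedComponent_eq hz]
      exact hs.1.isConnected.isPreconnected.subset_connectedComponent hzs
  rw [h]
  exact (NoetherianSpace.finite_irreducibleComponents.subset fun s hs => hs.1).isClosed_biUnion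
    fun s hs => isClosed_of_mem_irreducibleComponents s hs.1

theorem isClosed_diff_connectedComponentIn [NoetherianSpace α] {F : Set α} (hF : IsClosed F) {x : α}
    (hx : x ∈ F) : IsClosed (F \ connectedComponentIn F x) := by
  rw [connectedComponentIn_eq_image hx]
  have h : F \ Subtype.val '' connectedComponent (⟨x, hx⟩ : F) =
      Subtype.val '' (connectedComponent (⟨x, hx⟩ : F))ᶜ := by
    ext z
    constructor
    · rintro ⟨hz, hz'⟩
      exact ⟨⟨z, hz⟩, fun h => hz' ⟨_, h, rfl⟩, rfl⟩
    · rintro ⟨⟨w, hw⟩, hw', rfl⟩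
      refine ⟨hw, ?_⟩
      rintro ⟨⟨v, hv⟩, hv', rfl⟩
      exact hw' hv'
  rw [h]
  exact hF.isClosedEmbedding_subtypeVal.isClosedMap _ (isClosed_compl_connectedComponent _)

/-- An isolated point of intersection of a locally closed `V` with `Z` gives a closed piece of `V`. -/
theorem exists_isolating [NoetherianSpace α] (Z : Set α) (hZ : IsClosed Z)
    (hb : ∀ Y : Set α, IsClosed Y → Y.Nonempty → IsConnected Y → (Y ∩ Z).Nonempty ∧ IsConnected (Y ∩ Z))
    (x : α) (U : Set α) (hU : IsOpen U) (hxU : x ∈ U) (V : Set α) (hVU : V ⊆ U) (hV : closure V ∩ U ⊆ V)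
    (hxV : x ∈ V) (hxZ : x ∈ Z) (hVZ : V ∩ Z ⊆ {x}) (hxcl : IsClosed ({x} : Set α)) :
    ∃ (U' C : Set α), IsOpen U' ∧ IsClosed C ∧ x ∈ C ∧ C ⊆ U' ∧ U' ⊆ U ∧ C ∩ Z ⊆ {x} ∧ V ∩ U' = C := by
  let P := connectedComponentIn (closure V) x
  have hxP : x ∈ P := mem_connectedComponentIn (subset_closure hxV)
  have hPcl : IsClosed P := isClosed_connectedComponentIn isClosed_closure x
  have hPsub : P ⊆ closure V := connectedComponentIn_subset _ _
  have hPc : IsConnected P := ⟨⟨x, hxP⟩, isPreconnected_connectedComponentIn⟩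
  have hPZ : P ∩ Z ⊆ {x} := by
    intro z hz
    by_contra hzx
    have hc := (hb P hPcl ⟨x, hxP⟩ hPc).2.isPreconnected
    have hsub : P ∩ Z ⊆ {x} ∪ ((closure V ∩ Z) \ U) := fun w hw => by
      by_cases hwU : w ∈ U
      · exact Or.inl (hVZ ⟨hV ⟨hPsub hw.1, hwU⟩, hw.2⟩)
      · exact Or.inr ⟨⟨hPsub hw.1, hw.2⟩, hwU⟩
    have hz2 : z ∈ (closure V ∩ Z) \ U := (hsub hz).resolve_left hzx
    obtain ⟨w, -, hw1, hw2⟩ := isPreconnected_closed_iff.mp hc {x} ((closure V ∩ Z) \ U) hxcl
      ((isClosed_closure.inter hZ).sdiff hU) hsub ⟨x, ⟨hxP, hxZ⟩, rfl⟩ ⟨z, hz, hz2⟩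
    exact hw2.2 ((mem_singleton_iff.mp hw1) ▸ hxU)
  have hPU : P ⊆ U := by
    intro z hz
    by_contra hzU
    have hQ : IsClosed (P \ U) := hPcl.sdiff hU
    have hzQ : z ∈ connectedComponentIn (P \ U) z := mem_connectedComponentIn ⟨hz, hzU⟩
    obtain ⟨⟨w, hw, hwZ⟩, -⟩ := hb _ (isClosed_connectedComponentIn hQ z) ⟨z, hzQ⟩
      ⟨⟨z, hzQ⟩, isPreconnected_connectedComponentIn⟩
    have hw' := connectedComponentIn_subset _ _ hw
    exact hw'.2 ((mem_singleton_iff.mp (hPZ ⟨hw'.1, hwZ⟩)) ▸ hxU)
  refine ⟨U \ (closure V \ P), P, hU.sdiff (isClosed_diff_connectedComponentIn isClosed_closure (subset_closure hxV)),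
    hPcl, hxP, fun z hz => ⟨hPU hz, fun h => h.2 hz⟩, sdiff_subset, hPZ, ?_⟩
  ext z
  constructor
  · rintro ⟨hzV, hzU, hz⟩
    by_contra h
    exact hz ⟨subset_closure hzV, h⟩
  · intro hz
    exact ⟨hV ⟨hPsub hz, hPU hz⟩, hPU hz, fun h => h.2 hz⟩

/-- Closed sets meeting `Z` in distinct single points are disjoint. -/
theorem disjoint_of_inter {Z C C' : Set α} {x y : α} (hne : x ≠ y) (hC : IsClosed C) (hC' : IsClosed C')
    (hb : ∀ Y : Set α, IsClosed Y → Y.Nonempty → IsConnected Y → (Y ∩ Z).Nonempty ∧ IsConnected (Y ∩ Z))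
    (h : C ∩ Z ⊆ {x}) (h' : C' ∩ Z ⊆ {y}) : Disjoint C C' := by
  rw [Set.disjoint_left]
  intro z hz hz'
  have hzQ : z ∈ connectedComponentIn (C ∩ C') z := mem_connectedComponentIn ⟨hz, hz'⟩
  obtain ⟨⟨w, hw, hwZ⟩, -⟩ := hb _ (isClosed_connectedComponentIn (hC.inter hC') z) ⟨z, hzQ⟩
    ⟨⟨z, hzQ⟩, isPreconnected_connectedComponentIn⟩
  have hw' := connectedComponentIn_subset _ _ hw
  exact hne ((mem_singleton_iff.mp (h ⟨hw'.1, hwZ⟩)).symm.trans (mem_singleton_iff.mp (h' ⟨hw'.2, hwZ⟩)))

/-- In a Noetherian sober space of dimension `≤ 1`, closed sets avoiding a nonempty open in every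
component are finite, consisting of closed points. -/
theorem finite_of_avoid [NoetherianSpace α] [QuasiSober α] [T0Space α] (hdim : topologicalKrullDim α ≤ 1)
    (E : Set α) (hE : IsClosed E)
    (h : ∀ C (hC : C ∈ irreducibleComponents α), hC.1.genericPoint ∉ E) :
    E.Finite ∧ ∀ z ∈ E, IsClosed ({z} : Set α) := by
  have hclosed : ∀ z ∈ E, IsClosed ({z} : Set α) := by
    intro z hz
    rw [← closure_subset_iff_isClosed]
    intro z' hz'
    by_contra hne
    let hC := irreducibleComponent_mem_irreducibleComponents z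
    let η := hC.1.genericPoint
    have hη : closure {η} = irreducibleComponent z :=
      (hC.1.isGenericPoint_genericPoint (isClosed_of_mem_irreducibleComponents _ hC))
    let mk : α → IrreducibleCloseds α := fun a =>
      ⟨closure {a}, isIrreducible_singleton.closure, isClosed_closure⟩
    have hlt : ∀ a b : α, a ≠ b → a ∈ closure {b} → mk a < mk b := fun a b hab hmem => by
      have hsub : closure ({a} : Set α) ⊆ closure {b} :=
        closure_minimal (singleton_subset_iff.mpr hmem) isClosed_closure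
      refine lt_of_le_of_ne hsub fun e => hab ?_
      exact (inseparable_iff_closure_eq.mpr (congrArg (fun s : IrreducibleCloseds α => (s : Set α)) e)).eq
    have h1 : mk z' < mk z := hlt z' z hne hz'
    have h2 : mk z < mk η := hlt z η (fun e => h _ hC (show η ∈ E by rw [← e]; exact hz)) (hη ▸ mem_irreducibleComponent)
    let p : LTSeries (IrreducibleCloseds α) :=
      ((RelSeries.singleton _ (mk z')).snoc (mk z) h1).snoc (mk η) (by simpa using h2)
    have hp : p.length = 2 := rfl
    have := (le_sSup ⟨p, rfl⟩ : (p.length : WithBot ℕ∞) ≤ topologicalKrullDim α).trans hdim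
    rw [hp] at this
    exact absurd this (by decide)
  refine ⟨?_, hclosed⟩
  obtain ⟨S, hS, hSc, hSirr, hEq⟩ := NoetherianSpace.exists_finite_set_isClosed_irreducible hE
  rw [hEq]
  refine hS.sUnion fun s hs => ?_
  have hsub : s ⊆ E := hEq ▸ subset_sUnion_of_mem hs
  let ζ := (hSirr s hs).genericPoint
  have hζ : closure {ζ} = s := (hSirr s hs).isGenericPoint_genericPoint (hSc s hs)
  have hζE : ζ ∈ E := hsub (hζ ▸ subset_closure rfl)
  rw [← hζ, (hclosed ζ hζE).closure_eq]
  exact finite_singleton ζ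

end Groth.Agent.Et18.PicCurveLift
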